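import Cfsg.Agent.ODDC.PF7.Expansion
import Cfsg.Agent.ODDC.PF7.NonOrth
import Cfsg.Agent.ODDC.PF7.FrobBound
import Cfsg.Agent.ODDC.PF7.Frob

/-! Peterfalvi section 7 (interface); (7.1)-(7.5) are in `ODDC/Dade`. -/
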