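import Mathlib
import Cfsg.Agent.ODDC.PF8.Max
import Cfsg.Agent.ODDC.PF8.Char
import Cfsg.Agent.ODDC.PrimeDade
import Cfsg.Agent.ODDC.Dade
import Cfsg.Agent.ODDC.PF1a

/-! Peterfalvi section 8. -/
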