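import Mathlib
import Cfsg.Agent.ODDC.PF13.Arith
import Cfsg.Agent.ODDC.PF13.Facts
import Cfsg.Agent.ODDC.PF13.Upto15
import Cfsg.Agent.ODDC.PF13.Norm
import Cfsg.Agent.ODDC.PF13.Bridge
import Cfsg.Agent.ODDC.PF13.TypeI

/-! Peterfalvi section 13: (13.2), (13.3) are in `PF13/Facts`, (13.14) in `PF13/Arith`,
(13.12)-(13.15) in `PF13/Upto15`, (13.16), (13.17) in `PF13/Norm`, (13.18) in `PF13/Bridge` and
(13.19) in `PF13/TypeI`. -/
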